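import Cfsg.Agent.Lib.Recog.ThreeLocalSpSix.Model.Rows

/-!
Owner: helper3. Products of generators of the model, coded as numbers: fast evaluation of their rows.
-/

set_option autoImplicit false
set_option linter.all false
set_option maxRecDepth 100000

namespace CfsgLib.Recog.ThreeLocalSpSix.Closure

open Model (Sp62)

/-- The images of the sixty-four vectors under a generator, packed in a number. -/
def tab : Nat → Nat
  | 0 => 36890364376283012325242047491011734824284322343915638578013120783389505850632933583855000600913097749568124009324608
  | 1 => 39384749515404383094748852156480993359480355492798852967872254689055018951668910605756090785562927299337798667935808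
  | 2 => 36313045492339269176065130126276625870319144124648372252374636748641194458743593674386287426951698793354257109623040
  | 3 => 39246069856190461753171128591391614787233349785823530336379109099171756487323801261359236775938280133621767763973120
  | 4 => 23232491934943475018089445881817110151416132777370991830023110710182238108904325443910303656722927347284656779305600
  | 5 => 39389488314568318315598642687148996087963033255284344746873058167605182051992551940921271136688793276923591571091520
  | _ => 0

/-- A vector times a generator. -/
def fstep (i n : Nat) : Nat := Nat.land (Nat.shiftRight (tab i) (6 * n)) 63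

/-- A vector times the product with a given code (digits in base seven, the first factor lowest). -/
def run : Nat → Nat → Nat → Nat
  | 0, _, n => n
  | f + 1, c, n => if c = 0 then n else run f (c / 7) (fstep (c % 7 - 1) n)

/-- The letters of a code. -/
def dec : Nat → Nat → List (Fin 6)
  | 0, _ => []
  | f + 1, c => if c = 0 then [] else Fin.ofNat 6 (c % 7 - 1) :: dec f (c / 7)

/-- The word of a code. -/
def word (c : Nat) : List (Fin 6) := dec 18 c

/-- A vector times a list of codes. -/
def runs (cs : List Nat) (n : Nat) : Nat := cs.foldl (fun m c => run 18 c m) n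

/-- The rows of a product, packed in a number. -/
def key (cs : List Nat) : Nat :=
  runs cs 1 + 64 * (runs cs 2 + 64 * (runs cs 4 + 64 * (runs cs 8 + 64 * (runs cs 16 + 64 * runs cs 32))))

theorem fstep_ok : ((List.range 6).all fun i => (List.range 64).all fun n =>
    fstep i n == Model.stepRow (Fin.ofNat 6 i) n && Nat.blt (fstep i n) 64) = true := by decide +kernel

theorem fstep_eq {i : Nat} (hi : i < 6) {n : Nat} (hn : n < 64) :
    fstep i n = Model.stepRow (Fin.ofNat 6 i) n ∧ fstep i n < 64 := by
  have h := List.all_eq_true.1 (List.all_eq_true.1 fstep_ok i (List.mem_range.2 hi)) n (List.mem_range.2 hn)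
  rw [Bool.and_eq_true, beq_iff_eq, Nat.blt_eq] at h
  exact h

theorem run_spec : ∀ (f c : Nat) {n : Nat}, n < 64 →
    run f c n = (dec f c).foldl (fun m i => Model.stepRow i m) n ∧ run f c n < 64 := by
  intro f
  induction f with
  | zero => intro c n hn; exact ⟨rfl, hn⟩
  | succ f ih =>
    intro c n hn
    by_cases hc : c = 0
    · simp [run, dec, hc, hn]
    · obtain ⟨h1, h2⟩ := fstep_eq (show c % 7 - 1 < 6 by omega) hn
      obtain ⟨h3, h4⟩ := ih (c / 7) h2
      simp only [run, dec, hc, if_false, List.foldl_cons]
      exact ⟨by rw [h3, h1], h4⟩

theorem runs_spec : ∀ (cs : List Nat) {n : Nat}, n < 64 →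
    runs cs n = (cs.flatMap word).foldl (fun m i => Model.stepRow i m) n ∧ runs cs n < 64 := by
  intro cs
  induction cs with
  | nil => intro n hn; exact ⟨rfl, hn⟩
  | cons c cs ih =>
    intro n hn
    obtain ⟨h1, h2⟩ := run_spec 18 c hn
    obtain ⟨h3, h4⟩ := ih h2
    refine ⟨?_, h4⟩
    rw [List.flatMap_cons, List.foldl_append]
    show runs cs (run 18 c n) = _
    rw [h3, h1]
    rfl

theorem foldl_rows : ∀ (w : List (Fin 6)) (L : List Nat),
    w.foldl (fun L i => L.map (Model.stepRow i)) L = L.map fun n => w.foldl (fun m i => Model.stepRow i m) n
  | [], L => by simp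
  | i :: w, L => by rw [List.foldl_cons, foldl_rows w, List.map_map]; rfl

theorem wordRows_runs (cs : List Nat) :
    Model.wordRows (cs.flatMap word) = [1, 2, 4, 8, 16, 32].map (runs cs) := by
  rw [Model.wordRows, foldl_rows]
  refine List.map_congr_left fun n hn => ((runs_spec cs ?_).1).symm
  simp only [List.mem_cons, List.not_mem_nil, or_false] at hn
  omega

/-- The element of the model of a list of codes. -/
def mel (cs : List Nat) : Sp62 := ((cs.flatMap word).map Model.gen).prod

theorem mel_append (cs ds : List Nat) : mel (cs ++ ds) = mel cs * mel ds := by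
  rw [mel, mel, mel, List.flatMap_append, List.map_append, List.prod_append]

theorem mel_nil : mel [] = 1 := rfl

theorem mel_eq_iff {cs ds : List Nat} : mel cs = mel ds ↔ key cs = key ds := by
  constructor
  · intro h
    have h2 := Model.rows_of_word_eq h
    rw [wordRows_runs, wordRows_runs] at h2
    simp only [List.map_cons, List.map_nil, List.cons.injEq] at h2
    obtain ⟨e1, e2, e3, e4, e5, e6, -⟩ := h2
    simp only [key, e1, e2, e3, e4, e5, e6]
  · intro h
    refine Model.word_eq_of_rows ?_
    rw [wordRows_runs, wordRows_runs]
    have hb : ∀ cs n, n < 64 → runs cs n < 64 := fun cs n hn => (runs_spec cs hn).2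
    have := hb cs 1 (by omega)
    have := hb ds 1 (by omega)
    have := hb cs 2 (by omega)
    have := hb ds 2 (by omega)
    have := hb cs 4 (by omega)
    have := hb ds 4 (by omega)
    have := hb cs 8 (by omega)
    have := hb ds 8 (by omega)
    have := hb cs 16 (by omega)
    have := hb ds 16 (by omega)
    have := hb cs 32 (by omega)
    have := hb ds 32 (by omega)
    simp only [key] at h
    simp only [List.map_cons, List.map_nil, List.cons.injEq, and_true]
    refine ⟨?_, ?_, ?_, ?_, ?_, ?_⟩ <;> omega

end CfsgLib.Recog.ThreeLocalSpSix.Closure
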