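import Cfsg.Agent.Lib.Recog.ThreeLocalSpSix.Homs
import Cfsg.Agent.Lib.Recog.ThreeLocalSpSix.Closure.Codes

/-!
Owner: helper3. An embedding of the model of `Sp₆(2)`: values of coded products, subgroups given by lists.
-/

set_option autoImplicit false
set_option linter.all false
set_option maxRecDepth 100000

namespace CfsgLib.Recog.ThreeLocalSpSix

open Subgroup CfsgLib.Recog.HeisSL

universe u

namespace Core

/-- An embedding of `Sp₆(2)` extending the generators, with the centralizer of a short vector of full size. -/
structure Eight.SevenHom {G : Type u} [Group G] {B : Core G} (E : B.Eight) where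
  v : G
  φ : Model.Sp62 →* G
  inj : Function.Injective φ
  gens : ∀ i, φ (Model.gen i) = E.gen6 v i
  cardD : Nat.card (B.D (1, 0, 0)) = 2160

namespace Eight

namespace SevenHom

open Closure

variable {G : Type u} [Group G] {B : Core G} {E : B.Eight} (H : E.SevenHom)

/-- The value of a list of codes. -/
def el (cs : List Nat) : G := H.φ (mel cs)

/-- The image of the model. -/
def image : Subgroup G := H.φ.range

theorem el_mem (cs : List Nat) : H.el cs ∈ H.image := ⟨_, rfl⟩

theorem el_append (cs ds : List Nat) : H.el (cs ++ ds) = H.el cs * H.el ds := by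
  rw [el, el, el, mel_append, map_mul]

theorem el_nil : H.el [] = 1 := map_one H.φ

theorem el_eq {cs ds : List Nat} (h : key cs = key ds) : H.el cs = H.el ds :=
  congrArg H.φ (mel_eq_iff.2 h)

theorem key_of_el {cs ds : List Nat} (h : H.el cs = H.el ds) : key cs = key ds :=
  mel_eq_iff.1 (H.inj h)

theorem el_one {cs : List Nat} (h : key cs = key []) : H.el cs = 1 := (H.el_eq h).trans H.el_nil

theorem el_word (cs : List Nat) : H.el cs = ((cs.flatMap word).map (E.gen6 H.v)).prod := by
  rw [el, mel, map_list_prod, List.map_map]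
  exact congrArg List.prod (List.map_congr_left fun i _ => H.gens i)

/-- Conjugation of one coded element to another. -/
theorem conj_el {g x x' : List Nat} (h : key (g ++ x) = key (x' ++ g)) :
    H.el g * H.el x * (H.el g)⁻¹ = H.el x' := by
  rw [mul_inv_eq_iff_eq_mul, ← el_append, ← el_append, H.el_eq h]

/-- Two coded elements commute exactly when their keys do. -/
theorem commute_iff {x y : List Nat} : Commute (H.el x) (H.el y) ↔ key (x ++ y) = key (y ++ x) := by
  rw [Commute, SemiconjBy, ← el_append, ← el_append]
  exact ⟨H.key_of_el, H.el_eq⟩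

/-- Membership in a list of coded elements. -/
def InL (L : List (List Nat)) (g : G) : Prop := ∃ cs ∈ L, H.el cs = g

theorem inL_mem {L : List (List Nat)} {g : G} (h : H.InL L g) : g ∈ H.image := by
  obtain ⟨cs, -, rfl⟩ := h
  exact H.el_mem cs

/-- Any Boolean property of keys which holds throughout a list holds of a member. -/
theorem inL_elim {L : List (List Nat)} {g : G} (h : H.InL L g) (P : List Nat → Bool) (hP : L.all P = true) :
    ∃ cs, H.el cs = g ∧ P cs = true := by
  obtain ⟨cs, hcs, e⟩ := h
  exact ⟨cs, e, List.all_eq_true.1 hP cs hcs⟩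

/-- A member commuting with given elements lies in a smaller list. -/
theorem inL_filter {L L' : List (List Nat)} {g : G} (h : H.InL L g) (xs : List (List Nat))
    (hxs : ∀ x ∈ xs, Commute g (H.el x))
    (hP : L.all (fun cs => !(xs.all fun x => key (cs ++ x) == key (x ++ cs)) ||
      L'.any (fun ds => key ds == key cs)) = true) : H.InL L' g := by
  obtain ⟨cs, rfl, hc⟩ := H.inL_elim h _ hP
  have hall : (xs.all fun x => key (cs ++ x) == key (x ++ cs)) = true :=
    List.all_eq_true.2 fun x hx => beq_iff_eq.2 (H.commute_iff.1 (hxs x hx))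
  simp only [hall, Bool.not_true, Bool.false_or, List.any_eq_true, beq_iff_eq] at hc
  obtain ⟨ds, hds, e⟩ := hc
  exact ⟨ds, hds, H.el_eq e⟩

/-- A product of members. -/
theorem inL_mul {L L' : List (List Nat)} {g g' : G} (h : H.InL L g) (h' : H.InL L' g') :
    H.InL (L.flatMap fun cs => L'.map fun ds => cs ++ ds) (g * g') := by
  obtain ⟨cs, hcs, rfl⟩ := h
  obtain ⟨ds, hds, rfl⟩ := h'
  exact ⟨cs ++ ds, List.mem_flatMap.2 ⟨cs, hcs, List.mem_map.2 ⟨ds, hds, rfl⟩⟩, H.el_append cs ds⟩



/-- Strictly increasing, checked along the list. -/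
def increasing : List Nat → Bool
  | a :: b :: L => Nat.blt a b && increasing (b :: L)
  | _ => true

theorem pairwise_of_increasing : ∀ L : List Nat, increasing L = true → L.Pairwise (· < ·)
  | [], _ => List.Pairwise.nil
  | [a], _ => List.pairwise_singleton _ a
  | a :: b :: L, h => by
    simp only [increasing, Bool.and_eq_true, Nat.blt_eq] at h
    have ih := pairwise_of_increasing (b :: L) h.2
    refine List.pairwise_cons.2 ⟨fun x hx => ?_, ih⟩
    rcases List.mem_cons.1 hx with rfl | hx
    · exact h.1
    · exact h.1.trans ((List.pairwise_cons.1 ih).1 x hx)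

/-- A list of distinct members of a subgroup, as many as its order, is all of it. -/
theorem inL_of_card [Finite G] {K : Subgroup G} {L : List (List Nat)} (hmem : ∀ cs ∈ L, H.el cs ∈ K)
    (hinc : increasing (L.map key) = true) (hcard : Nat.card K ≤ L.length) {g : G} (hg : g ∈ K) :
    H.InL L g := by
  classical
  have : Fintype K := Fintype.ofFinite K
  set M : List K := L.pmap (fun cs h => (⟨H.el cs, h⟩ : K)) hmem with hM
  have hnd : M.Nodup := by
    refine List.Nodup.of_map (fun x : K => (x : G)) ?_
    rw [hM, List.map_pmap]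
    have h1 : (L.map key).Nodup := (pairwise_of_increasing _ hinc).imp ne_of_lt
    rw [List.pmap_eq_map]
    exact (List.nodup_map_iff_inj_on (List.Nodup.of_map _ h1)).2 fun a ha b hb e =>
      List.inj_on_of_nodup_map h1 ha hb (H.key_of_el e)
  have hu : M.toFinset = Finset.univ := by
    refine Finset.eq_univ_of_card _ (le_antisymm (Finset.card_le_univ _) ?_)
    rw [List.toFinset_card_of_nodup hnd, hM, List.length_pmap, ← Nat.card_eq_fintype_card]
    exact hcard
  have hgM : (⟨g, hg⟩ : K) ∈ M := List.mem_toFinset.1 (hu ▸ Finset.mem_univ _)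
  obtain ⟨cs, hcs, e⟩ := List.mem_pmap.1 hgM
  exact ⟨cs, hcs, congrArg Subtype.val e⟩

end SevenHom

end Eight

end Core

end CfsgLib.Recog.ThreeLocalSpSix
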