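import Cfsg.Agent.Lib.ZStar.Main
import Mathlib.GroupTheory.SchurZassenhaus

/-!
Owner: helper29. General lemmas for closing a group over a subgroup with known centralizers: odd subgroups
killed by a four-group and an inverting involution, isolated involutions modulo a central 2-group, pairs of
non-conjugate involutions modulo a central subgroup.
-/

set_option autoImplicit false
set_option linter.unusedSectionVars false

namespace CfsgLib.Recog.ThreeLocalSpSix.Tools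

open Subgroup

variable {G : Type*} [Group G] [Finite G]

/-- In a subgroup of odd order only `1` is its own inverse. -/
theorem eq_one_of_sq {O : Subgroup G} (hodd : Odd (Nat.card O)) {o : G} (ho : o ∈ O) (h : o * o = 1) : o = 1 :=
  CfsgLib.ZStar.eq_one_of_odd_of_sq (hodd.of_dvd_nat (O.orderOf_dvd_natCard ho)) (by rw [pow_two, h])

/-- Elements differing by one commuting with `o` act equally on it. -/
theorem conj_eq_of_commute {g h o : G} (hc : Commute (g⁻¹ * h) o) : g * o * g⁻¹ = h * o * h⁻¹ := by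
  calc g * o * g⁻¹ = g * (o * (g⁻¹ * h)) * h⁻¹ := by group
    _ = g * (g⁻¹ * h * o) * h⁻¹ := by rw [hc.eq]
    _ = h * o * h⁻¹ := by group

/-- An odd subgroup on which an involution fixes only `1` is inverted by it, so abelian. -/
theorem inverted_of_fix_one (O : Subgroup G) (v : G) (hodd : Odd (Nat.card O))
    (hvO : ∀ o ∈ O, v * o * v⁻¹ ∈ O) (hv2 : ∀ o ∈ O, Commute (v * v) o)
    (hfix : ∀ o ∈ O, Commute o v → o = 1) :
    (∀ o ∈ O, v * o * v⁻¹ = o⁻¹) ∧ ∀ o ∈ O, ∀ o' ∈ O, Commute o o' := by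
  let f : ↥O → ↥O := fun o => ⟨(o : G)⁻¹ * (v * o * v⁻¹), O.mul_mem (O.inv_mem o.2) (hvO o o.2)⟩
  have hf : Function.Injective f := fun p q e => by
    have e' : (p : G)⁻¹ * (v * p * v⁻¹) = (q : G)⁻¹ * (v * q * v⁻¹) := congrArg Subtype.val e
    refine Subtype.ext (mul_inv_eq_one.1 (hfix _ (O.mul_mem p.2 (O.inv_mem q.2)) ?_))
    refine (mul_inv_eq_iff_eq_mul.1 ?_).symm
    calc v * ((p : G) * (q : G)⁻¹) * v⁻¹ = (v * p * v⁻¹) * (v * q * v⁻¹)⁻¹ := by group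
      _ = p * ((p : G)⁻¹ * (v * p * v⁻¹)) * (v * q * v⁻¹)⁻¹ := by group
      _ = p * ((q : G)⁻¹ * (v * q * v⁻¹)) * (v * q * v⁻¹)⁻¹ := by rw [e']
      _ = p * (q : G)⁻¹ := by group
  have hinv : ∀ o ∈ O, v * o * v⁻¹ = o⁻¹ := fun o ho => by
    obtain ⟨p, hp⟩ := (Finite.injective_iff_surjective.1 hf) ⟨o, ho⟩
    have e : o = (p : G)⁻¹ * (v * p * v⁻¹) := (congrArg Subtype.val hp).symm
    have e2 : v * (v * p * v⁻¹) * v⁻¹ = p := by
      rw [show v * (v * (p : G) * v⁻¹) * v⁻¹ = v * v * p * (v * v)⁻¹ by group, (hv2 p p.2).eq,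
        mul_inv_cancel_right]
    rw [e]
    calc v * ((p : G)⁻¹ * (v * p * v⁻¹)) * v⁻¹ = (v * p * v⁻¹)⁻¹ * (v * (v * p * v⁻¹) * v⁻¹) := by group
      _ = (v * p * v⁻¹)⁻¹ * p := by rw [e2]
      _ = ((p : G)⁻¹ * (v * p * v⁻¹))⁻¹ := by group
  refine ⟨hinv, fun o ho o' ho' => ?_⟩
  have h : (o * o')⁻¹ = o⁻¹ * o'⁻¹ := by
    rw [← hinv o ho, ← hinv o' ho', ← hinv _ (O.mul_mem ho ho')]
    group
  have h2 := congrArg (·⁻¹) h
  show o * o' = o' * o
  simpa using h2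

/-- `A₄` with a fixed-point-free element of order three fixes an odd abelian group pointwise on the four-group. -/
theorem four_fixes (O : Subgroup G) (y k k' : G) (hodd : Odd (Nat.card O))
    (hcomm : ∀ o ∈ O, ∀ o' ∈ O, Commute o o')
    (hyO : ∀ o ∈ O, y * o * y⁻¹ ∈ O) (hkO : ∀ o ∈ O, k * o * k⁻¹ ∈ O) (hk'O : ∀ o ∈ O, k' * o * k'⁻¹ ∈ O)
    (hy3 : ∀ o ∈ O, Commute (y ^ 3) o) (hk2 : ∀ o ∈ O, Commute (k * k) o) (hk'2 : ∀ o ∈ O, Commute (k' * k') o)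
    (hkk : ∀ o ∈ O, Commute (k * k' * k⁻¹ * k'⁻¹) o)
    (h1 : ∀ o ∈ O, Commute ((y * k * y⁻¹)⁻¹ * k') o)
    (h2 : ∀ o ∈ O, Commute ((y * k' * y⁻¹)⁻¹ * (k * k')) o)
    (hfy : ∀ o ∈ O, Commute o y → o = 1) :
    ∀ o ∈ O, Commute o k ∧ Commute o k' := by
  let K : G → G := fun o => k * o * k⁻¹
  let K' : G → G := fun o => k' * o * k'⁻¹
  let Y : G → G := fun o => y * o * y⁻¹
  have hK : ∀ o ∈ O, K o ∈ O := hkO
  have hK' : ∀ o ∈ O, K' o ∈ O := hk'O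
  have hY : ∀ o ∈ O, Y o ∈ O := hyO
  have hKK : ∀ o ∈ O, K (K o) = o := fun o ho => by
    show k * (k * o * k⁻¹) * k⁻¹ = o
    rw [show k * (k * o * k⁻¹) * k⁻¹ = k * k * o * (k * k)⁻¹ by group, (hk2 o ho).eq, mul_inv_cancel_right]
  have hKK' : ∀ o ∈ O, K' (K' o) = o := fun o ho => by
    show k' * (k' * o * k'⁻¹) * k'⁻¹ = o
    rw [show k' * (k' * o * k'⁻¹) * k'⁻¹ = k' * k' * o * (k' * k')⁻¹ by group, (hk'2 o ho).eq, mul_inv_cancel_right]
  have hswap : ∀ o ∈ O, K (K' o) = K' (K o) := fun o ho => by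
    have h := conj_eq_of_commute (g := 1) (h := k * k' * k⁻¹ * k'⁻¹) (o := K' (K o))
      (by simpa using hkk _ (hK' _ (hK o ho)))
    refine Eq.trans ?_ (h.symm.trans (by group))
    show k * (k' * o * k'⁻¹) * k⁻¹ = _
    simp only [K, K']
    group
  have hYK : ∀ o ∈ O, Y (K o) = K' (Y o) := fun o ho => by
    have h := conj_eq_of_commute (h1 _ (hY o ho))
    refine Eq.trans ?_ h
    simp only [K, Y]
    group
  have hYK' : ∀ o ∈ O, Y (K' o) = K (K' (Y o)) := fun o ho => by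
    have h := conj_eq_of_commute (h2 _ (hY o ho))
    refine Eq.trans ?_ (h.trans ?_)
    · simp only [K', Y]
      group
    · simp only [K, K', Y]
      group
  have hKY : ∀ o ∈ O, K (Y o) = Y (K (K' o)) := fun o ho => by
    rw [hYK _ (hK' o ho), hYK' o ho, hswap _ (hY o ho), hKK' _ (hK _ (hY o ho))]
  have hY3 : ∀ o ∈ O, Y (Y (Y o)) = o := fun o ho => by
    show y * (y * (y * o * y⁻¹) * y⁻¹) * y⁻¹ = o
    rw [show y * (y * (y * o * y⁻¹) * y⁻¹) * y⁻¹ = y ^ 3 * o * (y ^ 3)⁻¹ by simp [pow_succ, mul_assoc],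
      (hy3 o ho).eq, mul_inv_cancel_right]
  have hnorm : ∀ o ∈ O, o * Y o * Y (Y o) = 1 := fun o ho => by
    refine hfy _ (O.mul_mem (O.mul_mem ho (hY o ho)) (hY _ (hY o ho))) (mul_inv_eq_iff_eq_mul.1 ?_).symm
    calc y * (o * Y o * Y (Y o)) * y⁻¹ = Y o * Y (Y o) * Y (Y (Y o)) := by simp only [Y]; group
      _ = Y o * Y (Y o) * o := by rw [hY3 o ho]
      _ = o * Y o * Y (Y o) := by
        rw [(hcomm _ (O.mul_mem (hY o ho) (hY _ (hY o ho))) o ho).eq, ← mul_assoc]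
  -- fixed by `k`, inverted by `k'`
  have core : ∀ x ∈ O, K x = x → K' x = x⁻¹ → x = 1 := fun x hx ha hb => by
    have e1 : K (Y x) = (Y x)⁻¹ := by
      rw [hKY x hx, hb]
      show y * (k * x⁻¹ * k⁻¹) * y⁻¹ = (y * x * y⁻¹)⁻¹
      rw [show k * x⁻¹ * k⁻¹ = (k * x * k⁻¹)⁻¹ by group, show k * x * k⁻¹ = x from ha]
      group
    have e2 : K (Y (Y x)) = (Y (Y x))⁻¹ := by
      rw [hKY _ (hY x hx), ← hYK' x hx, hb]
      simp [Y, mul_assoc]
    have h := hnorm x hx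
    have h' : K (x * Y x * Y (Y x)) = 1 := by rw [h]; simp [K]
    rw [show K (x * Y x * Y (Y x)) = K x * K (Y x) * K (Y (Y x)) by simp only [K]; group, ha, e1, e2] at h'
    refine eq_one_of_sq hodd hx ?_
    have e3 : Y x * Y (Y x) = x⁻¹ := eq_inv_of_mul_eq_one_right (by rw [← mul_assoc]; exact h)
    have e4 : (Y x)⁻¹ * (Y (Y x))⁻¹ = x := by
      rw [(hcomm _ (O.inv_mem (hY x hx)) _ (O.inv_mem (hY _ (hY x hx)))).eq, ← mul_inv_rev, e3, inv_inv]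
    rwa [mul_assoc, e4] at h'
  have hKinv : ∀ {g x : G}, g * x⁻¹ * g⁻¹ = (g * x * g⁻¹)⁻¹ := fun {g x} => by group
  -- the other two characters
  have core' : ∀ x ∈ O, K' x = x → K x = x⁻¹ → x = 1 := fun x hx ha hb => by
    have hYY := hY _ (hY x hx)
    have e1 : K (Y (Y x)) = Y (Y x) := by
      rw [hKY _ (hY x hx), ← hYK' x hx, ha]
    have e2 : K' (Y (Y x)) = (Y (Y x))⁻¹ := by
      rw [← hYK _ (hY x hx), hKY x hx, ha, hb]
      simp [Y, mul_assoc]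
    have h := core _ hYY e1 e2
    rw [← hY3 x hx, h]
    simp [Y]
  have core'' : ∀ x ∈ O, K x = x⁻¹ → K' x = x⁻¹ → x = 1 := fun x hx ha hb => by
    have e1 : K (Y x) = Y x := by
      rw [hKY x hx, hb, show K x⁻¹ = (K x)⁻¹ from hKinv, ha, inv_inv]
    have e2 : K' (Y x) = (Y x)⁻¹ := by
      rw [← hYK x hx, ha]
      exact hKinv
    have h := core _ (hY x hx) e1 e2
    have h' : x = y⁻¹ * Y x * y := by simp only [Y]; group
    rw [h', h]
    group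
  intro o ho
  have hKmul : ∀ {g p q : G}, g * (p * q) * g⁻¹ = (g * p * g⁻¹) * (g * q * g⁻¹) := fun {g p q} => by group
  obtain ⟨c, hc⟩ : ∃ c, c = o * (K o)⁻¹ := ⟨_, rfl⟩
  have hcO : c ∈ O := hc ▸ O.mul_mem ho (O.inv_mem (hK o ho))
  have hKc : K c = c⁻¹ := by
    rw [hc]
    show k * (o * (K o)⁻¹) * k⁻¹ = _
    rw [hKmul, hKinv, show k * K o * k⁻¹ = o from hKK o ho, mul_inv_rev, inv_inv]
  have hd : c * K' c = 1 := by
    have hdO : c * K' c ∈ O := O.mul_mem hcO (hK' c hcO)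
    refine core' _ hdO ?_ ?_
    · show k' * (c * K' c) * k'⁻¹ = _
      rw [hKmul, show k' * K' c * k'⁻¹ = c from hKK' c hcO]
      exact (hcomm _ (hK' c hcO) c hcO).eq
    · show k * (c * K' c) * k⁻¹ = _
      rw [hKmul, show k * c * k⁻¹ = c⁻¹ from hKc, show k * K' c * k⁻¹ = K' (K c) from hswap c hcO, hKc,
        show K' c⁻¹ = (K' c)⁻¹ from hKinv]
      exact (hcomm _ (O.inv_mem hcO) _ (O.inv_mem (hK' c hcO))).eq.trans (mul_inv_rev c (K' c)).symm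
  have he : c * (K' c)⁻¹ = 1 := by
    have heO : c * (K' c)⁻¹ ∈ O := O.mul_mem hcO (O.inv_mem (hK' c hcO))
    refine core'' _ heO ?_ ?_
    · show k * (c * (K' c)⁻¹) * k⁻¹ = _
      rw [hKmul, show k * c * k⁻¹ = c⁻¹ from hKc, hKinv, show k * K' c * k⁻¹ = K' (K c) from hswap c hcO, hKc,
        show K' c⁻¹ = (K' c)⁻¹ from hKinv, inv_inv, mul_inv_rev, inv_inv]
      exact (hcomm _ (O.inv_mem hcO) _ (hK' c hcO)).eq
    · show k' * (c * (K' c)⁻¹) * k'⁻¹ = _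
      rw [hKmul, hKinv, show k' * K' c * k'⁻¹ = c from hKK' c hcO, mul_inv_rev, inv_inv]
  have hc1 : c = 1 := eq_one_of_sq hodd hcO (by
    have h : K' c = c := (mul_inv_eq_one.1 he).symm
    rwa [h] at hd)
  have hKo : K o = o := (mul_inv_eq_one.1 (hc ▸ hc1)).symm
  have hk'o : K' o = o := by
    set b := o * (K' o)⁻¹ with hb
    have hbO : b ∈ O := O.mul_mem ho (O.inv_mem (hK' o ho))
    have hb1 : b = 1 := core b hbO (by
      show k * (o * (K' o)⁻¹) * k⁻¹ = _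
      rw [hKmul, hKinv, show k * K' o * k⁻¹ = K' (K o) from hswap o ho, show k * o * k⁻¹ = o from hKo, hKo]) (by
      show k' * (o * (K' o)⁻¹) * k'⁻¹ = _
      rw [hKmul, hKinv, show k' * K' o * k'⁻¹ = o from hKK' o ho, hb, mul_inv_rev, inv_inv])
    exact (mul_inv_eq_one.1 (hb ▸ hb1)).symm
  exact ⟨(mul_inv_eq_iff_eq_mul.1 hKo).symm, (mul_inv_eq_iff_eq_mul.1 hk'o).symm⟩

/-- With an involution inverting `y` that has no common fixed point with the four-group, the group is trivial. -/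
theorem eq_bot_of_four (O : Subgroup G) (y k k' s : G) (hodd : Odd (Nat.card O))
    (hcomm : ∀ o ∈ O, ∀ o' ∈ O, Commute o o')
    (hyO : ∀ o ∈ O, y * o * y⁻¹ ∈ O) (hkO : ∀ o ∈ O, k * o * k⁻¹ ∈ O) (hk'O : ∀ o ∈ O, k' * o * k'⁻¹ ∈ O)
    (hsO : ∀ o ∈ O, s * o * s⁻¹ ∈ O)
    (hy3 : ∀ o ∈ O, Commute (y ^ 3) o) (hk2 : ∀ o ∈ O, Commute (k * k) o) (hk'2 : ∀ o ∈ O, Commute (k' * k') o)
    (hkk : ∀ o ∈ O, Commute (k * k' * k⁻¹ * k'⁻¹) o)
    (h1 : ∀ o ∈ O, Commute ((y * k * y⁻¹)⁻¹ * k') o)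
    (h2 : ∀ o ∈ O, Commute ((y * k' * y⁻¹)⁻¹ * (k * k')) o)
    (hfy : ∀ o ∈ O, Commute o y → o = 1)
    (hs2 : ∀ o ∈ O, Commute (s * s) o) (hs : ∀ o ∈ O, Commute (s * y * s⁻¹ * y) o)
    (hfs : ∀ o ∈ O, Commute o k → Commute o k' → Commute o s → o = 1) : O = ⊥ := by
  have hf := four_fixes O y k k' hodd hcomm hyO hkO hk'O hy3 hk2 hk'2 hkk h1 h2 hfy
  have hinv := (inverted_of_fix_one O s hodd hsO hs2 fun o ho hc => hfs o ho (hf o ho).1 (hf o ho).2 hc).1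
  refine (eq_bot_iff_forall _).2 fun o ho => ?_
  set p := y * o * y⁻¹ with hp
  have hpO : p ∈ O := hyO o ho
  have hsp : s⁻¹ * p * s = p⁻¹ := by
    have h3 := hinv _ (O.inv_mem hpO)
    rw [inv_inv] at h3
    calc s⁻¹ * p * s = s⁻¹ * (s * p⁻¹ * s⁻¹) * s := by rw [h3]
      _ = p⁻¹ := by group
  have h1' : s * y * s⁻¹ * y * o * (s * y * s⁻¹ * y)⁻¹ = o := by rw [(hs o ho).eq, mul_inv_cancel_right]
  rw [show s * y * s⁻¹ * y * o * (s * y * s⁻¹ * y)⁻¹ = s * (y * (s⁻¹ * p * s) * y⁻¹) * s⁻¹ by rw [hp]; group, hsp,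
    show y * p⁻¹ * y⁻¹ = (y * p * y⁻¹)⁻¹ by group, hinv _ (O.inv_mem (hyO p hpO)), inv_inv] at h1'
  have h4 : y * (y * p * y⁻¹) * y⁻¹ = o := by
    rw [hp, show y * (y * (y * o * y⁻¹) * y⁻¹) * y⁻¹ = y ^ 3 * o * (y ^ 3)⁻¹ by simp [pow_succ, mul_assoc],
      (hy3 o ho).eq, mul_inv_cancel_right]
  rw [h1', ← hp] at h4
  exact hfy o ho (mul_inv_eq_iff_eq_mul.1 (hp ▸ h4)).symm

/-- An involution isolated modulo a central 2-subgroup, in a subgroup with no normal odd subgroup, is central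
modulo it (Z*). -/
theorem mem_of_isolated_mod (L Z : Subgroup G) (hZL : Z ≤ L) (hZ2 : IsPGroup 2 Z)
    (hZc : ∀ z ∈ Z, ∀ g ∈ L, Commute g z) (x : G) (hx : x ∈ L) (hx2 : x * x ∈ Z) (hxZ : x ∉ Z)
    (hiso : ∀ g ∈ L, g * x * g⁻¹ * x * (g * x * g⁻¹)⁻¹ * x⁻¹ ∈ Z → g * x * g⁻¹ * x⁻¹ ∈ Z)
    (hkill : ∀ O ≤ L, Odd (Nat.card O) → (∀ g ∈ L, ∀ o ∈ O, g * o * g⁻¹ ∈ O) → O = ⊥) :
    ∀ g ∈ L, g * x * g⁻¹ * x⁻¹ ∈ Z := by
  haveI : Fact (Nat.Prime 2) := ⟨Nat.prime_two⟩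
  set Z' := Z.subgroupOf L with hZ'
  haveI hZn : Z'.Normal := ⟨fun z hz g => by
    show (g : G) * z * (g : G)⁻¹ ∈ Z
    rw [(hZc (z : G) hz (g : G) g.2).eq, mul_inv_cancel_right]; exact hz⟩
  set π := QuotientGroup.mk' Z' with hπ
  have hπ1 : ∀ w : ↥L, π w = 1 ↔ (w : G) ∈ Z := fun w => (QuotientGroup.eq_one_iff w).trans mem_subgroupOf
  set u := π ⟨x, hx⟩ with hu
  have hu2 : orderOf u = 2 := by
    refine CfsgLib.Signalizer.orderOf_eq_two_of (fun e => hxZ ((hπ1 _).1 e)) ?_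
    rw [hu, ← map_mul]
    exact (hπ1 _).2 hx2
  have hisolated : Cfsg.IsIsolatedInvolution u := by
    refine ⟨hu2, fun q hq => ?_⟩
    obtain ⟨g, rfl⟩ := QuotientGroup.mk'_surjective Z' q
    have h1 : π (g * ⟨x, hx⟩ * g⁻¹ * ⟨x, hx⟩ * (g * ⟨x, hx⟩ * g⁻¹)⁻¹ * ⟨x, hx⟩⁻¹) = 1 := by
      simp only [map_mul, map_inv, ← hu]
      exact mul_inv_eq_one.2 (mul_inv_eq_iff_eq_mul.2 hq.eq.symm)
    have h2 := hiso g g.2 ((hπ1 _).1 h1)
    have h3 := (hπ1 (g * ⟨x, hx⟩ * g⁻¹ * ⟨x, hx⟩⁻¹)).2 h2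
    simp only [map_mul, map_inv, ← hu] at h3
    exact mul_inv_eq_one.1 h3
  -- no odd core
  have hcore : Cfsg.oddCore (↥L ⧸ Z') = ⊥ := by
    set M := (Cfsg.oddCore (↥L ⧸ Z')).comap π with hM
    have hZM : Z' ≤ M := fun z hz => by
      rw [hM, mem_comap, show π z = 1 from (QuotientGroup.eq_one_iff z).2 hz]
      exact one_mem _
    set ZM := Z'.subgroupOf M with hZMdef
    haveI : ZM.Normal := Subgroup.Normal.subgroupOf hZn M
    have hidx : Odd ZM.index := by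
      have e : ZM.index = Nat.card (Cfsg.oddCore (↥L ⧸ Z')) := by
        have hker : Z' = (⊥ : Subgroup (↥L ⧸ Z')).comap π := by
          rw [MonoidHom.comap_bot, hπ, QuotientGroup.ker_mk']
        refine (congrArg (fun H : Subgroup ↥L => H.relIndex M) hker).trans ?_
        rw [relIndex_comap, relIndex_bot_left, hM,
          map_comap_eq_self_of_surjective (QuotientGroup.mk'_surjective _)]
      rw [e]
      exact CfsgLib.ZStar.odd_card_oddCore _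
    have hp : IsPGroup 2 ZM := (hZ2.comap_of_injective L.subtype L.subtype_injective).comap_of_injective M.subtype
      M.subtype_injective
    obtain ⟨k, hk⟩ := IsPGroup.iff_card.1 hp
    have hcop : (Nat.card ZM).Coprime ZM.index := hk ▸ (Nat.coprime_two_left.2 hidx).pow_left k
    obtain ⟨W, hW⟩ := exists_right_complement'_of_coprime hcop
    have hWc : Nat.card W = ZM.index := hW.symm.index_eq_card.symm ▸ rfl
    -- `W` is the set of `W`-torsion elements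
    have hmem : ∀ m : M, m ^ Nat.card W = 1 → m ∈ W := fun m hm => by
      obtain ⟨⟨z, w⟩, hzw⟩ := hW.2 m
      have hzw' : (z : M) * w = m := hzw
      have hc : Commute ((z : M) : ↥L) ((w : M) : ↥L) :=
        Subtype.ext (hZc _ z.2 _ ((w : M) : ↥L).2).eq.symm
      have hcM : Commute (z : M) (w : M) := Subtype.ext hc.eq
      rw [← hzw', hcM.mul_pow, show (w : M) ^ Nat.card W = 1 from
        congrArg Subtype.val (pow_card_eq_one' (x := w)), mul_one] at hm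
      have h1 : orderOf (z : M) ∣ Nat.card W := orderOf_dvd_of_pow_eq_one hm
      have h2 : orderOf (z : M) ∣ Nat.card ZM := ZM.orderOf_dvd_natCard z.2
      have h3 : (z : M) = 1 := orderOf_eq_one_iff.1
        (Nat.eq_one_of_dvd_coprimes (hWc ▸ hcop) h2 h1)
      rw [← hzw', h3, one_mul]
      exact w.2
    have hbot := hkill ((W.map M.subtype).map L.subtype) (map_subtype_le _) (by
        rw [card_map_of_injective L.subtype_injective, card_map_of_injective M.subtype_injective, hWc]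
        exact hidx) (by
      rintro g hg _ ⟨_, ⟨w, hw, rfl⟩, rfl⟩
      haveI : M.Normal := Subgroup.Normal.comap inferInstance π
      refine ⟨_, ⟨⟨(⟨g, hg⟩ : ↥L) * w * (⟨g, hg⟩ : ↥L)⁻¹, Subgroup.Normal.conj_mem inferInstance _ w.2 _⟩,
        hmem _ (Subtype.ext ?_), rfl⟩, rfl⟩
      show ((⟨g, hg⟩ : ↥L) * (w : ↥L) * (⟨g, hg⟩ : ↥L)⁻¹) ^ Nat.card W = 1
      rw [conj_pow, show (w : ↥L) ^ Nat.card W = 1 from
        congrArg (fun t : W => ((t : M) : ↥L)) (pow_card_eq_one' (x := (⟨w, hw⟩ : W))), mul_one, mul_inv_cancel])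
    rw [map_eq_bot_iff_of_injective _ L.subtype_injective, map_eq_bot_iff_of_injective _ M.subtype_injective] at hbot
    refine (eq_bot_iff_forall _).2 fun q hq => ?_
    obtain ⟨m, rfl⟩ := QuotientGroup.mk'_surjective Z' q
    obtain ⟨⟨z, w⟩, hzw⟩ := hW.2 (⟨m, hq⟩ : M)
    have hw1 : (w : M) = 1 := mem_bot.1 (hbot.le w.2)
    have e : (z : M) = ⟨m, hq⟩ := by rw [← show (z : M) * w = ⟨m, hq⟩ from hzw, hw1, mul_one]
    refine (QuotientGroup.eq_one_iff m).2 ?_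
    have e' : ((z : M) : ↥L) = m := congrArg Subtype.val e
    rw [← e']
    exact z.2
  intro g hg
  have h := CfsgLib.ZStar.mem_oddCore_of_isolated hisolated (π ⟨g, hg⟩)
  rw [hcore, mem_bot] at h
  have h' : π (⟨g, hg⟩ * ⟨x, hx⟩ * ⟨g, hg⟩⁻¹ * ⟨x, hx⟩⁻¹) = 1 := by
    simp only [map_mul, map_inv, ← hu]
    have := congrArg (·⁻¹) h
    simpa [mul_assoc] using this
  exact (hπ1 _).1 h'

/-- Two involutions modulo a central subgroup that are not conjugate modulo it have a third one commuting with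
both modulo it: the product has even order. -/
theorem exists_between (L Z : Subgroup G) (hZL : Z ≤ L) (hZc : ∀ z ∈ Z, ∀ g ∈ L, Commute g z)
    (i j : G) (hi : i ∈ L) (hj : j ∈ L) (hi2 : i * i ∈ Z) (hj2 : j * j ∈ Z)
    (hne : ∀ g ∈ L, g * i * g⁻¹ * j⁻¹ ∉ Z) :
    ∃ k ∈ L, k ∉ Z ∧ k * k ∈ Z ∧ k * i * k⁻¹ * i⁻¹ ∈ Z ∧ k * j * k⁻¹ * j⁻¹ ∈ Z := by
  set Z' := Z.subgroupOf L with hZ'
  haveI hZn : Z'.Normal := ⟨fun z hz g => by
    show (g : G) * z * (g : G)⁻¹ ∈ Z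
    rw [(hZc (z : G) hz (g : G) g.2).eq, mul_inv_cancel_right]; exact hz⟩
  set π := QuotientGroup.mk' Z' with hπ
  have hπ1 : ∀ w : ↥L, π w = 1 ↔ (w : G) ∈ Z := fun w => (QuotientGroup.eq_one_iff w).trans mem_subgroupOf
  set a := π ⟨i, hi⟩ with ha
  set b := π ⟨j, hj⟩ with hb
  have ha2 : a * a = 1 := by rw [ha, ← map_mul]; exact (hπ1 _).2 hi2
  have hb2 : b * b = 1 := by rw [hb, ← map_mul]; exact (hπ1 _).2 hj2
  have hab : ∀ q, q * a * q⁻¹ ≠ b := fun q e => by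
    obtain ⟨g, rfl⟩ := QuotientGroup.mk'_surjective Z' q
    refine hne g g.2 ((hπ1 (g * ⟨i, hi⟩ * g⁻¹ * ⟨j, hj⟩⁻¹)).1 ?_)
    simp only [map_mul, map_inv, ← ha, ← hb]
    exact mul_inv_eq_one.2 e
  obtain ⟨c, hc1, hc2, hca, hcb⟩ : ∃ c, c ≠ 1 ∧ c * c = 1 ∧ Commute c a ∧ Commute c b := by
    by_cases ha1 : a = 1
    · refine ⟨b, fun e => hab 1 (by simp [ha1, e]), hb2, ?_, Commute.refl b⟩
      rw [ha1]; exact Commute.one_right b
    by_cases hb1 : b = 1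
    · refine ⟨a, ha1, ha2, Commute.refl a, ?_⟩
      rw [hb1]; exact Commute.one_right a
    have hao := CfsgLib.Signalizer.orderOf_eq_two_of ha1 ha2
    have hbo := CfsgLib.Signalizer.orderOf_eq_two_of hb1 hb2
    have heven : Even (orderOf (a * b)) := Nat.not_odd_iff_even.1 fun ho => by
      obtain ⟨d, -, hd⟩ := CfsgLib.Signalizer.exists_conj_of_odd hao hbo ho
      exact hab d hd
    obtain ⟨h2, hxa, hxb⟩ := CfsgLib.Signalizer.central_involution hao hbo heven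
    exact ⟨_, CfsgLib.Signalizer.involution_ne_one h2, CfsgLib.Signalizer.involution_sq h2, hxa, hxb⟩
  obtain ⟨k, rfl⟩ := QuotientGroup.mk'_surjective Z' c
  refine ⟨k, k.2, fun h => hc1 ((hπ1 k).2 h), (hπ1 (k * k)).1 (by rw [map_mul]; exact hc2),
    (hπ1 (k * ⟨i, hi⟩ * k⁻¹ * ⟨i, hi⟩⁻¹)).1 ?_, (hπ1 (k * ⟨j, hj⟩ * k⁻¹ * ⟨j, hj⟩⁻¹)).1 ?_⟩
  · simp only [map_mul, map_inv, ← ha]
    exact mul_inv_eq_one.2 (mul_inv_eq_iff_eq_mul.2 hca.eq)
  · simp only [map_mul, map_inv, ← hb]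
    exact mul_inv_eq_one.2 (mul_inv_eq_iff_eq_mul.2 hcb.eq)

end CfsgLib.Recog.ThreeLocalSpSix.Tools
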