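import Cfsg.Agent.Lib.Recog.PSpFourAmalgam.Basics
import Cfsg.Agent.Lib.LocalEven.Generation
import Cfsg.Agent.S3331

/-!
Owner: helper18. General lemmas for S3342 (notes/s3342_tools_statements.lean.txt, last four).

* `coprime_of_fixed`, `le_of_plane`: subgroups normalized by 3-groups.
* `nilpotent_eq`: a nilpotent group equal to a 2-subgroup.
* `exists_nilpotent_normal`: a self-centralizing element of order three modulo a central 2-subgroup.
-/

set_option autoImplicit false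
set_option linter.style.haveILetI false

namespace CfsgLib.Recog.ThreeLocalSpSix.Tools

open Subgroup

/-- A subgroup normalized by an element of order three whose fixed points have order prime to three has order
prime to three. -/
theorem coprime_of_fixed {G : Type*} [Group G] [Finite G] (D : Subgroup G) (e : G) (he : e ^ 3 = 1)
    (heD : ∀ d ∈ D, e * d * e⁻¹ ∈ D)
    (hfix : ∀ d ∈ D, Commute d e → (orderOf d).Coprime 3) : (Nat.card D).Coprime 3 := by
  haveI : Fact (Nat.Prime 3) := ⟨Nat.prime_three⟩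
  refine ((Nat.prime_three.coprime_iff_not_dvd).2 fun hd => ?_).symm
  have hp : IsPGroup 3 (zpowers e) := by
    obtain ⟨k, -, hk⟩ := (Nat.dvd_prime_pow Nat.prime_three).1
      (show orderOf e ∣ 3 ^ 1 by rw [pow_one]; exact orderOf_dvd_of_pow_eq_one he)
    exact IsPGroup.of_card (n := k) (by rw [Nat.card_zpowers, hk])
  have heN : zpowers e ≤ normalizer (D : Set G) := zpowers_le.2 (mem_normalizer_fintype heD)
  let φ : zpowers e →* MulAut ↥D :=
    (MulDistribMulAction.toMulAut ↥(normalizer (D : Set G)) ↥D).comp (inclusion heN)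
  have hφ : ∀ (w : zpowers e) (d : ↥D), ((φ w d : ↥D) : G) = w * d * (w : G)⁻¹ := fun w d => rfl
  letI : MulAction (zpowers e) (Sylow 3 ↥D) := MulAction.compHom _ φ
  obtain ⟨P, hP⟩ := hp.nonempty_fixed_point_of_prime_not_dvd_card (Sylow 3 ↥D) fun h => by
    have h1 : Nat.card (Sylow 3 ↥D) % 3 = 1 % 3 := card_sylow_modEq_one 3 ↥D
    omega
  have hPinv : ∀ (w : zpowers e) (d : ↥D), d ∈ (P : Subgroup ↥D) → φ w d ∈ (P : Subgroup ↥D) := fun w d hd => by
    have h1 : w • P = P := hP w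
    rw [← h1]
    exact ⟨d, hd, rfl⟩
  letI : MulAction (zpowers e) ↥(P : Subgroup ↥D) :=
    { smul := fun w d => ⟨φ w d, hPinv w d d.2⟩
      one_smul := fun d => Subtype.ext (by show φ 1 d = d; rw [map_one]; rfl)
      mul_smul := fun w w' d => Subtype.ext (by show φ (w * w') d = _; rw [map_mul]; rfl) }
  have h3 : 3 ∣ Nat.card ↥(P : Subgroup ↥D) := P.dvd_card_of_dvd_card hd
  have h1 : (1 : ↥(P : Subgroup ↥D)) ∈ MulAction.fixedPoints (zpowers e) ↥(P : Subgroup ↥D) := fun w =>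
    Subtype.ext (map_one (φ w))
  obtain ⟨b, hb, hne⟩ := hp.exists_fixed_point_of_prime_dvd_card_of_fixed_point _ h3 h1
  have hc : Commute ((b : ↥D) : G) e := by
    have := congrArg (fun d : ↥(P : Subgroup ↥D) => ((d : ↥D) : G)) (hb ⟨e, mem_zpowers e⟩)
    exact (mul_inv_eq_iff_eq_mul.1 this).symm
  obtain ⟨j, hj⟩ := IsPGroup.iff_orderOf.1 P.2 b
  have h4 := hfix _ (b : ↥D).2 hc
  rw [Subgroup.orderOf_coe, Subgroup.orderOf_coe, hj] at h4
  rcases j with _ | j
  · exact hne (orderOf_eq_one_iff.1 (hj.trans (pow_zero 3))).symm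
  · rw [pow_succ, Nat.coprime_mul_iff_left] at h4
    norm_num at h4

/-- A subgroup of `C` normalized by a Sylow elementary subgroup of order nine, meeting it trivially, is generated
by the centralizers in it of the operators. -/
theorem le_of_plane {G : Type*} [Group G] [Finite G] (C E X R : Subgroup G) (hEC : E ≤ C) (hE : Nat.card E = 9)
    (hE3 : ∀ e ∈ E, e ^ 3 = 1) (hEi : ¬ 3 ∣ E.relIndex C) (hXC : X ≤ C) (hEX : E ≤ normalizer (X : Set G))
    (hinf : E ⊓ X = ⊥) (h : ∀ e ∈ E, e ≠ 1 → ∀ g ∈ X, Commute g e → g ∈ R) : X ≤ R := by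
  haveI : Fact (Nat.Prime 3) := ⟨Nat.prime_three⟩
  haveI : IsMulCommutative ↥E :=
    IsPGroup.isMulCommutative_of_card_eq_prime_sq (p := 3) (by rw [hE]; norm_num)
  refine CfsgLib.LocalEven.le_of_centralizers_le (p := 3) (A := E) hE3 (by rw [hE]; norm_num) hEX ?_
    fun e he he1 g hg => h e he he1 g hg.1 (mem_centralizer_singleton_iff.1 hg.2)
  intro hd
  refine hEi ?_
  have hc := CfsgLib.Core.card_sup_mul_card_inf E X hEX
  rw [hinf, card_bot, mul_one] at hc
  have h1 : E.relIndex (E ⊔ X) = Nat.card X := by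
    have h2 : Nat.card E * E.relIndex (E ⊔ X) = Nat.card ↥(E ⊔ X) := by
      rw [← relIndex_bot_left, ← relIndex_bot_left (E ⊔ X)]
      exact relIndex_mul_relIndex _ _ _ bot_le le_sup_left
    rw [hc] at h2
    exact Nat.eq_of_mul_eq_mul_left Nat.card_pos h2
  have h2 : E.relIndex (E ⊔ X) ∣ E.relIndex C := Dvd.intro _
    (relIndex_mul_relIndex E (E ⊔ X) C le_sup_left (sup_le hEC hXC))
  exact hd.trans (h1 ▸ h2)

/-- A nilpotent group containing the 2-group `P0` is equal to it when its 2-part has nothing more normalizing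
`P0` and its odd part nothing abelian centralizing `P0`. -/
theorem nilpotent_eq {G : Type*} [Group G] [Finite G] (N P0 : Subgroup G) (hN : Group.IsNilpotent N)
    (hP0N : P0 ≤ N) (hP0 : IsPGroup 2 P0)
    (hP : ∀ P ≤ N, IsPGroup 2 P → P0 ≤ P → (∀ n ∈ normalizer (N : Set G), ∀ p ∈ P, n * p * n⁻¹ ∈ P) →
      ∀ g ∈ P, g ∈ normalizer (P0 : Set G) → g ∈ P0)
    (hodd : ∀ O ≤ N, Odd (Nat.card O) → (∀ o ∈ O, ∀ o' ∈ O, Commute o o') →
      (∀ n ∈ normalizer (N : Set G), ∀ o ∈ O, n * o * n⁻¹ ∈ O) → (∀ o ∈ O, ∀ p ∈ P0, Commute o p) → O = ⊥) :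
    N = P0 := by
  haveI : Fact (Nat.Prime 2) := ⟨Nat.prime_two⟩
  haveI := hN
  have hchar : ∀ H : Subgroup ↥N, H.Characteristic → ∀ n ∈ normalizer (N : Set G), ∀ x ∈ H.map N.subtype,
      n * x * n⁻¹ ∈ H.map N.subtype := by
    rintro H hH n hn _ ⟨x, hx, rfl⟩
    exact ⟨MulDistribMulAction.toMulAut ↥(normalizer (N : Set G)) ↥N ⟨n, hn⟩ x,
      (characteristic_iff_le_comap.1 hH _) hx, rfl⟩
  obtain ⟨Q, hQ⟩ := (hP0.comap_of_injective N.subtype N.subtype_injective :
    IsPGroup 2 (P0.subgroupOf N)).exists_le_sylow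
  have htwo : IsPGroup 2 ↥N := by
    refine IsPGroup.of_card (n := (Nat.card N).primeFactorsList.length)
      (Nat.eq_prime_pow_of_unique_prime_dvd Nat.card_pos.ne' fun {r} hr hrd => ?_)
    by_contra hr2
    haveI : Fact r.Prime := ⟨hr⟩
    obtain ⟨R⟩ : Nonempty (Sylow r ↥N) := inferInstance
    haveI : (R : Subgroup ↥N).Characteristic := R.characteristic_of_normal inferInstance
    set Z := (center ↥(R : Subgroup ↥N)).map (R : Subgroup ↥N).subtype with hZ
    haveI : Nontrivial ↥(R : Subgroup ↥N) :=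
      Finite.one_lt_card_iff_nontrivial.1 (lt_of_lt_of_le hr.one_lt
        (Nat.le_of_dvd Nat.card_pos (R.dvd_card_of_dvd_card hrd)))
    have hne := R.2.bot_lt_center
    have hcharZ : Z.Characteristic := inferInstance
    have hoddr : Odd r := hr.odd_of_ne_two hr2
    refine hne.ne' (map_injective (R : Subgroup ↥N).subtype_injective (map_injective N.subtype_injective ?_))
    rw [Subgroup.map_bot, Subgroup.map_bot]
    refine hodd _ (map_subtype_le _) ?_ ?_ (hchar Z hcharZ) ?_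
    · rw [card_map_of_injective N.subtype_injective, card_map_of_injective (R : Subgroup ↥N).subtype_injective]
      obtain ⟨k, hk⟩ := (IsPGroup.iff_card.1 R.2)
      exact (hk ▸ hoddr.pow : Odd (Nat.card ↥(R : Subgroup ↥N))).of_dvd_nat (card_subgroup_dvd_card _)
    · rintro _ ⟨_, ⟨o, ho, rfl⟩, rfl⟩ _ ⟨_, ⟨o', ho', rfl⟩, rfl⟩
      exact congrArg (fun z : ↥(R : Subgroup ↥N) => ((z : ↥N) : G)) (mem_center_iff.1 ho' o)
    · rintro _ ⟨_, ⟨o, ho, rfl⟩, rfl⟩ p hp
      have h1 : ((o : ↥N)) ∈ (R : Subgroup ↥N) := o.2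
      have h2 : (⟨p, hP0N hp⟩ : ↥N) ∈ (Q : Subgroup ↥N) := hQ hp
      have hdis : Disjoint (R : Subgroup ↥N) (Q : Subgroup ↥N) := IsPGroup.disjoint_of_ne r 2 hr2 _ _ R.2 Q.2
      exact congrArg (fun z : ↥N => (z : G))
        (Subgroup.commute_of_normal_of_disjoint _ _ inferInstance inferInstance hdis _ _ h1 h2).eq
  -- `N` is a 2-group
  by_contra hne
  have hne' : P0.subgroupOf N ≠ ⊤ := fun h => hne (le_antisymm (subgroupOf_eq_top.1 h) hP0N)
  obtain ⟨g, hgN, hg⟩ := SetLike.exists_of_lt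
    (Group.normalizerCondition_of_isNilpotent (P0.subgroupOf N) (lt_top_iff_ne_top.2 hne'))
  refine hg (hP N le_rfl htwo hP0N (fun n hn p hp => (mem_normalizer_iff.1 hn p).1 hp) g g.2
    (mem_normalizer_fintype fun x hx => (mem_normalizer_iff.1 hgN ⟨x, hP0N hx⟩).1 hx))

section quotient

set_option maxRecDepth 100000

theorem perm_three_words : ∀ x : Equiv.Perm (Fin 3), x * x * x = 1 → x ≠ 1 → ∀ s, s * x * s⁻¹ = x⁻¹ →
    ∀ d, d ≠ 1 → (d * d * d = 1 ∨ d * (x * d * x⁻¹) ≠ 1 ∧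
      d * (x * d * x⁻¹) * (d * (x * d * x⁻¹)) * (d * (x * d * x⁻¹)) = 1) := by
  decide +kernel

/-- Words in the conjugates of `d`, one of which has order three. -/
def words {W : Type*} [Group W] (x s d : W) : List W :=
  let a := x * d * x⁻¹
  let b := x * a * x⁻¹
  let e := s * d * s⁻¹
  let f := x * e * x⁻¹
  [d * d * d * a, d * d * a, d * a * d * b, d * e * a * f, d * e]

/-- An element of order three of `A₅`. -/
def altThree : alternatingGroup (Fin 5) :=
  ⟨Equiv.swap 0 1 * Equiv.swap 1 2, Equiv.Perm.mem_alternatingGroup.2 (by decide +kernel)⟩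

theorem alt_three_conj : ∀ x : alternatingGroup (Fin 5), x * x * x = 1 → x ≠ 1 → ∃ g, g * x = altThree * g := by
  decide +kernel

theorem alt_five_words : ∀ s, s * altThree * s⁻¹ = altThree⁻¹ →
    ∀ d, d ≠ 1 → ∃ w ∈ words altThree s d, w ≠ 1 ∧ w * w * w = 1 := by
  decide +kernel

/-- A subgroup of order prime to three invariant under `x` and `s` is trivial, given such words. -/
theorem eq_bot_of_invariant {W : Type*} [Group W] [Finite W] (D : Subgroup W) (hD : (Nat.card D).Coprime 3)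
    (h : ∀ d ∈ D, d ≠ 1 → ∃ w ∈ D, w ≠ 1 ∧ w * w * w = 1) : D = ⊥ := by
  refine (eq_bot_iff_forall _).2 fun d hd => ?_
  by_contra hd1
  obtain ⟨w, hw, hw1, hw3⟩ := h d hd hd1
  haveI : Fact (Nat.Prime 3) := ⟨Nat.prime_three⟩
  have h3 : orderOf w = 3 := orderOf_eq_prime (by rw [pow_succ, pow_two, hw3]) hw1
  have := Nat.eq_one_of_dvd_coprimes hD (D.orderOf_dvd_natCard hw) (h3 ▸ dvd_rfl)
  omega

end quotient

/-- A subgroup with an element of order three self-centralizing modulo a central 2-subgroup and inverted by `s`: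
a nilpotent normal subgroup contains every subgroup of order prime to three invariant under both. -/
theorem exists_nilpotent_normal {G : Type*} [Group G] [Finite G] (L Z : Subgroup G) (hZL : Z ≤ L)
    (hZ2 : IsPGroup 2 Z) (hZc : ∀ z ∈ Z, ∀ g ∈ L, Commute g z) (e s : G) (he : e ∈ L) (he3 : orderOf e = 3)
    (hs : s ∈ L) (hse : s * e * s⁻¹ = e⁻¹)
    (hcent : ∀ g ∈ L, Commute g e → ∃ i : ℕ, ∃ z ∈ Z, g = e ^ i * z)
    (h168 : Nat.card L ≠ 168 * Nat.card Z) :
    ∃ N ≤ L, (∀ g ∈ L, ∀ n ∈ N, g * n * g⁻¹ ∈ N) ∧ Group.IsNilpotent N ∧ Z ≤ N ∧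
      ∀ D ≤ L, (Nat.card D).Coprime 3 → (∀ d ∈ D, e * d * e⁻¹ ∈ D) → (∀ d ∈ D, s * d * s⁻¹ ∈ D) → D ≤ N := by
  haveI : Fact (Nat.Prime 3) := ⟨Nat.prime_three⟩
  haveI : Fact (Nat.Prime 2) := ⟨Nat.prime_two⟩
  set Z' := Z.subgroupOf L with hZ'
  haveI : Z'.Normal := ⟨fun z hz g => by
    rw [show g * z * g⁻¹ = z from mul_inv_eq_iff_eq_mul.2 (Subtype.ext (hZc z hz g g.2).eq)]
    exact hz⟩
  set π := QuotientGroup.mk' Z' with hπ
  have hπs : Function.Surjective π := QuotientGroup.mk'_surjective _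
  have hπ1 : ∀ g : ↥L, π g = 1 ↔ (g : G) ∈ Z := fun g => (QuotientGroup.eq_one_iff g).trans mem_subgroupOf
  set x := π ⟨e, he⟩ with hx
  have he3' : e * e * e = 1 := by
    rw [← pow_two, ← pow_succ, show (2 + 1 : ℕ) = orderOf e from he3.symm, pow_orderOf_eq_one]
  have hzthree : ∀ z ∈ Z, z * z * z = 1 → z = 1 := fun z hz h => by
    obtain ⟨k, hk⟩ := IsPGroup.iff_orderOf.1 hZ2 ⟨z, hz⟩
    rw [Subgroup.orderOf_mk] at hk
    exact orderOf_eq_one_iff.1 (Nat.eq_one_of_dvd_coprimes (Nat.Coprime.pow_left k (by norm_num : Nat.Coprime 2 3))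
      (hk ▸ dvd_rfl) (orderOf_dvd_of_pow_eq_one (by rw [pow_succ, pow_two, h])))
  have hx3 : orderOf x = 3 := orderOf_eq_prime
    (by rw [hx, ← map_pow, hπ1, SubgroupClass.coe_pow, pow_succ, pow_two, he3']; exact one_mem Z)
    fun h => by
      have := hzthree e ((hπ1 _).1 h) he3'
      rw [this, orderOf_one] at he3
      omega
  have hC : centralizer (zpowers x : Set (↥L ⧸ Z')) = zpowers x := by
    refine le_antisymm (fun q hq => ?_) (fun q hq => ?_)
    · obtain ⟨g, rfl⟩ := hπs q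
      have hc : Commute x (π g) := mem_centralizer_iff.1 hq x (mem_zpowers x)
      have hz : (g : G) * e * (g : G)⁻¹ * e⁻¹ ∈ Z := (hπ1 (g * ⟨e, he⟩ * g⁻¹ * ⟨e, he⟩⁻¹)).1 (by
        rw [map_mul, map_mul, map_mul, map_inv, map_inv, ← hx, ← hc.eq, mul_inv_cancel_right, mul_inv_cancel])
      set z := (g : G) * e * (g : G)⁻¹ * e⁻¹ with hzd
      have hze : (g : G) * e * (g : G)⁻¹ = z * e := by rw [hzd, inv_mul_cancel_right]
      have h3 : z * z * z = 1 := by
        have hc' : Commute z e := (hZc z hz e he).symm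
        have := hc'.mul_pow 3
        rw [← hze, conj_pow, show e ^ 3 = 1 by rw [pow_succ, pow_two, he3'], mul_one, mul_inv_cancel, mul_one,
          pow_succ, pow_two] at this
        exact this.symm
      have hz1 := hzthree z hz h3
      rw [hz1, one_mul, mul_inv_eq_iff_eq_mul] at hze
      obtain ⟨i, w, hw, hgw⟩ := hcent g g.2 hze
      have : g = ⟨e, he⟩ ^ i * ⟨w, hZL hw⟩ := Subtype.ext (by simpa using hgw)
      rw [this, map_mul, map_pow, (hπ1 ⟨w, hZL hw⟩).2 hw, mul_one]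
      exact pow_mem (mem_zpowers x) i
    · obtain ⟨i, rfl⟩ := mem_zpowers_iff.1 hq
      refine mem_centralizer_iff.2 fun h hh => ?_
      obtain ⟨j, rfl⟩ := mem_zpowers_iff.1 hh
      exact (Commute.zpow_zpow (Commute.refl x) j i).eq
  have key : ∃ (M : Subgroup (↥L ⧸ Z')) (_ : M.Normal), Group.IsNilpotent M ∧
      ∀ D : Subgroup ((↥L ⧸ Z') ⧸ M), (Nat.card D).Coprime 3 →
        (∀ d ∈ D, QuotientGroup.mk' M x * d * (QuotientGroup.mk' M x)⁻¹ ∈ D) →
        (∀ d ∈ D, QuotientGroup.mk' M (π ⟨s, hs⟩) * d * (QuotientGroup.mk' M (π ⟨s, hs⟩))⁻¹ ∈ D) → D = ⊥ := by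
    have hinv : π ⟨s, hs⟩ * x * (π ⟨s, hs⟩)⁻¹ = x⁻¹ := by
      rw [hx, ← map_inv, ← map_inv, ← map_mul, ← map_mul]
      exact congrArg π (Subtype.ext hse)
    -- pulling words back from a model of the quotient
    have hmodel : ∀ (M : Subgroup (↥L ⧸ Z')) [M.Normal] (W : Type) [Group W] [Finite W]
        (f : (↥L ⧸ Z') ⧸ M ≃* W), (Nat.card M).Coprime 3 →
        (∀ X S : W, X * X * X = 1 → X ≠ 1 → S * X * S⁻¹ = X⁻¹ → ∀ D : Subgroup W,
          (∀ d ∈ D, X * d * X⁻¹ ∈ D) → (∀ d ∈ D, S * d * S⁻¹ ∈ D) →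
          ∀ d ∈ D, d ≠ 1 → ∃ w ∈ D, w ≠ 1 ∧ w * w * w = 1) →
        ∀ D : Subgroup ((↥L ⧸ Z') ⧸ M), (Nat.card D).Coprime 3 →
          (∀ d ∈ D, QuotientGroup.mk' M x * d * (QuotientGroup.mk' M x)⁻¹ ∈ D) →
          (∀ d ∈ D, QuotientGroup.mk' M (π ⟨s, hs⟩) * d * (QuotientGroup.mk' M (π ⟨s, hs⟩))⁻¹ ∈ D) → D = ⊥ := by
      intro M _ W _ _ f hM hw D hD hxD hsD
      set F : (↥L ⧸ Z') →* W := f.toMonoidHom.comp (QuotientGroup.mk' M) with hF
      have hxne : F x ≠ 1 := by
        intro h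
        rw [hF, MonoidHom.comp_apply, MulEquiv.coe_toMonoidHom, map_eq_one_iff f f.injective,
          QuotientGroup.mk'_apply, QuotientGroup.eq_one_iff] at h
        have h1 := Nat.eq_one_of_dvd_coprimes hM (M.orderOf_dvd_natCard h) (hx3 ▸ dvd_rfl)
        omega
      have hx3' : F x * F x * F x = 1 := by
        rw [← map_mul, ← map_mul, ← pow_two, ← pow_succ, show (2 + 1 : ℕ) = orderOf x from hx3.symm,
          pow_orderOf_eq_one, map_one]
      have hD' : (Nat.card (D.map f.toMonoidHom)).Coprime 3 := by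
        rwa [card_map_of_injective f.injective]
      have := eq_bot_of_invariant _ hD' (hw (F x) (F (π ⟨s, hs⟩)) hx3' hxne
        (by rw [← map_inv F, ← map_inv F, ← map_mul F, ← map_mul F, hinv]) (D.map f.toMonoidHom)
        (by
          rintro _ ⟨d, hd, rfl⟩
          exact ⟨_, hxD d hd, by simp [hF]⟩)
        (by
          rintro _ ⟨d, hd, rfl⟩
          exact ⟨_, hsD d hd, by simp [hF]⟩))
      exact (map_eq_bot_iff_of_injective _ f.injective).1 this
    rcases Cfsg.Agent.S3331.result (zpowers x) (by rw [Nat.card_zpowers, hx3]) hC with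
      ⟨M, hM, hnil, hcop, hq⟩ | ⟨M, hM, hcomm, hexp, ⟨f⟩⟩ | ⟨⟨f⟩⟩
    · refine ⟨M, hM, hnil, ?_⟩
      rcases hq with h3 | ⟨⟨f⟩⟩
      · intro D hD _ _
        exact card_eq_one.1 (Nat.eq_one_of_dvd_coprimes hD dvd_rfl (h3 ▸ card_subgroup_dvd_card D))
      · refine hmodel M _ f hcop fun X S hX hX1 hS D hXD _ d hd hd1 => ?_
        rcases perm_three_words X hX hX1 S hS d hd1 with h | ⟨h1, h2⟩
        · exact ⟨d, hd, hd1, h⟩
        · exact ⟨_, mul_mem hd (hXD d hd), h1, h2⟩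
    · haveI : IsMulCommutative ↥M := hcomm
      refine ⟨M, hM, ?_, ?_⟩
      · exact (show IsPGroup 2 ↥M from fun n => ⟨1, Subtype.ext (by simpa using hexp n n.2)⟩).isNilpotent
      · refine hmodel M _ f ?_ fun X S hX hX1 hS D hXD hSD d hd hd1 => ?_
        · obtain ⟨k, hk⟩ := IsPGroup.iff_card.1
            (show IsPGroup 2 ↥M from fun n => ⟨1, Subtype.ext (by simpa using hexp n n.2)⟩)
          rw [hk]
          exact Nat.Coprime.pow_left k (by norm_num)
        obtain ⟨g, hg⟩ := alt_three_conj X hX hX1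
        set c := MulAut.conj g with hc
        have hcX : c X = altThree := mul_inv_eq_iff_eq_mul.2 hg
        obtain ⟨w, hw, hw1, hw3⟩ := alt_five_words (c S)
          (by rw [← hcX, ← map_inv, ← map_inv, ← map_mul, ← map_mul, hS]) (c d)
          (fun h => hd1 (c.injective (h.trans (map_one c).symm)))
        refine ⟨c.symm w, ?_, fun h => hw1 ?_, by rw [← map_mul, ← map_mul, hw3, map_one]⟩
        swap
        · rw [← c.apply_symm_apply w, h, map_one]
        suffices w ∈ D.map c.toMonoidHom by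
          obtain ⟨y, hy, rfl⟩ := this
          exact (c.symm_apply_apply y).symm ▸ hy
        have hmem : ∀ {y z}, (∀ u ∈ D, y * u * y⁻¹ ∈ D) → z ∈ D.map c.toMonoidHom →
            c y * z * (c y)⁻¹ ∈ D.map c.toMonoidHom := by
          rintro y _ hy ⟨u, hu, rfl⟩
          exact ⟨_, hy u hu, by simp⟩
        have hd' : c d ∈ D.map c.toMonoidHom := mem_map_of_mem _ hd
        have ha := hmem hXD hd'
        have hb := hmem hXD ha
        have he' := hmem hSD hd'
        have hf := hmem hXD he'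
        rw [hcX] at ha hb hf
        simp only [words, List.mem_cons, List.not_mem_nil, or_false] at hw
        rcases hw with rfl | rfl | rfl | rfl | rfl
        · exact mul_mem (mul_mem (mul_mem hd' hd') hd') ha
        · exact mul_mem (mul_mem hd' hd') ha
        · exact mul_mem (mul_mem (mul_mem hd' ha) hd') hb
        · exact mul_mem (mul_mem (mul_mem hd' he') ha) hf
        · exact mul_mem hd' he'
    · exfalso
      have : Fact (Nat.Prime 7) := ⟨by norm_num⟩
      refine h168 ?_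
      have h := CfsgLib.Classical.Two.card_PSL_two (F := ZMod 7)
      rw [ZMod.card] at h
      have hq : Nat.card (↥L ⧸ Z') = 168 := by
        rw [Nat.card_congr f.toEquiv]
        norm_num [Nat.card_eq_fintype_card] at h ⊢
        omega
      rw [card_eq_card_quotient_mul_card_subgroup Z', hq, Nat.card_congr (subgroupOfEquivOfLe hZL).toEquiv]
  obtain ⟨M, hMn, hMnil, hMD⟩ := key
  haveI := hMn
  haveI := hMnil
  refine ⟨(M.comap π).map L.subtype, map_subtype_le _, ?_, ?_, ?_, ?_⟩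
  · rintro g hg _ ⟨n, hn, rfl⟩
    exact ⟨⟨g, hg⟩ * n * ⟨g, hg⟩⁻¹, (hMn.comap π).conj_mem n hn _, rfl⟩
  · haveI : Group.IsNilpotent ↥(M.comap π) := by
      refine Subgroup.isNilpotent_of_ker_le_center (π.subgroupComap M) fun w hw => mem_center_iff.2 fun v => ?_
      have hwZ : ((w : ↥L) : G) ∈ Z := (hπ1 _).1 (congrArg Subtype.val hw)
      exact Subtype.ext (Subtype.ext (hZc _ hwZ _ (v : ↥L).2).eq)
    exact Group.nilpotent_of_mulEquiv (equivMapOfInjective _ _ L.subtype_injective)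
  · intro z hz
    exact ⟨⟨z, hZL hz⟩, mem_comap.2 ((hπ1 ⟨z, hZL hz⟩).2 hz ▸ one_mem M), rfl⟩
  · intro D hDL hD hDe hDs d hd
    refine ⟨⟨d, hDL hd⟩, mem_comap.2 ?_, rfl⟩
    set D' := ((D.subgroupOf L).map π).map (QuotientGroup.mk' M) with hD'
    have hb : D' = ⊥ := by
      refine hMD D' (hD.coprime_dvd_left ((card_map_dvd _ _).trans ((card_map_dvd _ _).trans
        (dvd_of_eq (Nat.card_congr (subgroupOfEquivOfLe hDL).toEquiv))))) ?_ ?_
      · rintro _ ⟨_, ⟨w, hw, rfl⟩, rfl⟩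
        exact ⟨_, ⟨⟨e, he⟩ * w * ⟨e, he⟩⁻¹, hDe _ hw, rfl⟩, by simp [hx]⟩
      · rintro _ ⟨_, ⟨w, hw, rfl⟩, rfl⟩
        exact ⟨_, ⟨⟨s, hs⟩ * w * ⟨s, hs⟩⁻¹, hDs _ hw, rfl⟩, by simp⟩
    have h1 : QuotientGroup.mk' M (π ⟨d, hDL hd⟩) ∈ D' := mem_map_of_mem _ (mem_map_of_mem _ hd)
    rw [hb, mem_bot] at h1
    exact (QuotientGroup.eq_one_iff _).1 h1

end CfsgLib.Recog.ThreeLocalSpSix.Tools
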